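import Mathlib
import Groth.Agent.S1182
import Groth.Agent.EtDescent.Scheme

/-!
A map from a smooth normal `A`-algebra to a finite normal `A`-algebra lands in the étale locus.
-/

set_option autoImplicit false
set_option linter.style.haveILetI false

universe u

open TensorProduct

namespace Groth.Agent.NeronHDLib

attribute [local instance] Algebra.TensorProduct.rightAlgebra

/-- A section of a finite normal algebra over a domain is a localisation. -/
theorem formallyEtale_section (C D : Type u) [CommRing C] [CommRing D] [IsDomain C] [Algebra C D]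
    [Algebra D C] [IsScalarTower C D C] [Algebra.IsIntegral C D] [IsNoetherianRing D]
    (hD : EGA4.IsNormalRing D) : Algebra.FormallyEtale D C := by
  let J := RingHom.ker (algebraMap D C)
  have hsurj : Function.Surjective (algebraMap D C) := fun c =>
    ⟨algebraMap C D c, (IsScalarTower.algebraMap_apply C D C c).symm⟩
  haveI hJ : J.IsPrime := RingHom.ker_isPrime _
  have hloc : ∀ (P : Ideal D) [P.IsPrime], J ≤ P → ∀ x ∈ J, ∃ s ∉ P, s * x = 0 := by
    intro P _ hJP x hx
    haveI := (hD P).1
    let q := RingHom.ker (algebraMap D (Localization.AtPrime P))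
    haveI hq : q.IsPrime := RingHom.ker_isPrime _
    have hqJ : q ≤ J := fun y hy => by
      obtain ⟨s, hs⟩ := (IsLocalization.map_eq_zero_iff P.primeCompl _ y).1 hy
      exact (hJ.mem_or_mem (show (s : D) * y ∈ J by rw [hs]; exact zero_mem _)).resolve_left fun h => s.2 (hJP h)
    have hJ0 : J.comap (algebraMap C D) = ⊥ := by
      refine le_bot_iff.1 fun c hc => ?_
      have h0 : algebraMap D C (algebraMap C D c) = 0 := hc
      rwa [← IsScalarTower.algebraMap_apply, Algebra.algebraMap_self, RingHom.id_apply] at h0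
    have hqeq : q = J := by
      rcases eq_or_lt_of_le hqJ with h | h
      · exact h
      · have h1 := Ideal.IsIntegral.comap_lt_comap (A := D) (R := C) (I := q) (J := J) h
        rw [hJ0] at h1
        exact absurd h1 not_lt_bot
    rw [← hqeq] at hx
    obtain ⟨s, hs⟩ := (IsLocalization.map_eq_zero_iff P.primeCompl _ x).1 hx
    exact ⟨s, s.2, hs⟩
  have hidem : IsIdempotentElem J := by
    refine le_antisymm Ideal.mul_le_left fun x hx => ?_
    by_contra hxn
    obtain ⟨P, hP, hPle⟩ := Ideal.exists_le_maximal ((J * J).colon (Ideal.span {x}))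
      (fun h => hxn (by
        have h1 : (1 : D) ∈ (J * J).colon (Ideal.span {x}) := h ▸ Submodule.mem_top
        simpa using Ideal.mem_colon_span_singleton.1 h1))
    haveI := hP.isPrime
    by_cases hJP : J ≤ P
    · obtain ⟨s, hs, hsx⟩ := hloc P hJP x hx
      exact hs (hPle (Ideal.mem_colon_span_singleton.2 (hsx.symm ▸ zero_mem _)))
    · obtain ⟨j, hjJ, hjP⟩ := SetLike.not_le_iff_exists.1 hJP
      exact hjP (hPle (Ideal.mem_colon_span_singleton.2 (Ideal.mul_mem_mul hjJ hx)))
  obtain ⟨e, he, hJe⟩ := (J.isIdempotentElem_iff_of_fg (IsNoetherian.noetherian J)).1 hidem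
  haveI : IsLocalization.Away (1 - e) C := IsLocalization.away_of_isIdempotentElem he.one_sub
    (by rw [sub_sub_cancel]; exact hJe) hsurj
  exact Algebra.FormallyEtale.of_isLocalization (Submonoid.powers (1 - e))

/-- The pullback of the differentials of `B/A` to a smooth normal `A`-algebra vanishes. -/
theorem subsingleton_pullback_kaehler (A B C : Type u) [CommRing A] [CommRing B] [CommRing C]
    [Algebra A B] [Algebra A C] [Algebra B C] [IsScalarTower A B C] [Module.Finite A B]
    [Algebra.Smooth A C] [IsDomain C] [IsNoetherianRing C] (hB : EGA4.IsNormalRing B) :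
    Algebra.FormallySmooth B C ∧ Subsingleton (C ⊗[B] Ω[B⁄A]) := by
  let σ : B ⊗[A] C →ₐ[A] C :=
    Algebra.TensorProduct.lift (IsScalarTower.toAlgHom A B C) (AlgHom.id A C) fun _ _ => Commute.all _ _
  letI : Algebra (B ⊗[A] C) C := σ.toRingHom.toAlgebra
  haveI : IsScalarTower C (B ⊗[A] C) C := .of_algebraMap_eq fun c => by
    simp [RingHom.algebraMap_toAlgebra, σ, Algebra.TensorProduct.right_algebraMap_apply]
  haveI : IsScalarTower B (B ⊗[A] C) C := .of_algebraMap_eq fun b => by
    simp [RingHom.algebraMap_toAlgebra, σ]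
  haveI : Module.Finite C (B ⊗[A] C) :=
    Module.Finite.equiv ((Algebra.TensorProduct.commRight A C B).toLinearEquiv)
  haveI : IsNoetherianRing (B ⊗[A] C) := IsNoetherianRing.of_finite C _
  have hD : EGA4.IsNormalRing (B ⊗[A] C) := (Groth.Agent.S1182.result B (B ⊗[A] C)).1 hB
  haveI := formallyEtale_section C (B ⊗[A] C) hD
  haveI hs : Algebra.FormallySmooth B C := Algebra.FormallySmooth.comp B (B ⊗[A] C) C
  refine ⟨hs, ?_⟩
  haveI : Algebra.IsPushout A B C (B ⊗[A] C) := TensorProduct.isPushout
  let e : Ω[C⁄A] ≃ₗ[C] Ω[C⁄B] :=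
    (TensorProduct.lid C Ω[C⁄A]).symm ≪≫ₗ
      (TensorProduct.AlgebraTensorModule.cancelBaseChange C (B ⊗[A] C) C C Ω[C⁄A]).symm ≪≫ₗ
      TensorProduct.AlgebraTensorModule.congr (LinearEquiv.refl C C) (KaehlerDifferential.tensorKaehlerEquiv A B C (B ⊗[A] C)) ≪≫ₗ
      KaehlerDifferential.tensorKaehlerEquivOfFormallyEtale B (B ⊗[A] C) C
  have hinjm : Function.Injective (KaehlerDifferential.map A B C C) := by
    have h := OrzechProperty.injective_of_surjective_endomorphism (e.symm.toLinearMap ∘ₗ KaehlerDifferential.map A B C C)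
      (e.symm.surjective.comp (KaehlerDifferential.map_surjective A B C))
    exact Function.Injective.of_comp (f := e.symm) h
  have hinj : Function.Injective (KaehlerDifferential.mapBaseChange A B C) := by
    rw [injective_iff_map_eq_zero]
    intro x hx
    obtain ⟨y, rfl⟩ := (Algebra.H1Cotangent.exact_δ_mapBaseChange A B C x).1 hx
    rw [Subsingleton.elim y 0, map_zero]
  refine ⟨fun a b => hinj (hinjm ?_)⟩
  rw [(KaehlerDifferential.exact_mapBaseChange_map A B C).apply_apply_eq_zero,
    (KaehlerDifferential.exact_mapBaseChange_map A B C).apply_apply_eq_zero]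

/-- Points of `B` coming from a smooth normal `A`-algebra are étale. -/
theorem exists_etale_away (A B C : Type u) [CommRing A] [CommRing B] [CommRing C]
    [Algebra A B] [Algebra A C] [Algebra B C] [IsScalarTower A B C] [Module.Finite A B] [Algebra.FinitePresentation A B]
    [Algebra.Smooth A C] [IsDomain C] [IsNoetherianRing C] (hB : EGA4.IsNormalRing B) (P : PrimeSpectrum C) :
    ∃ f : B, f ∉ P.asIdeal.comap (algebraMap B C) ∧ Algebra.Etale A (Localization.Away f) := by
  obtain ⟨hs, hΩ⟩ := subsingleton_pullback_kaehler A B C hB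
  haveI : Algebra.FinitePresentation B C := Algebra.FinitePresentation.of_restrict_scalars_finitePresentation A B C
  haveI : Algebra.Smooth B C := ⟨hs, inferInstance⟩
  haveI : Module.Flat B C := inferInstance
  obtain ⟨_, ⟨_, ⟨f, rfl⟩, rfl⟩, hfP, hfsub⟩ := PrimeSpectrum.isBasis_basic_opens.exists_subset_of_mem_open
    (Set.mem_range_self P : PrimeSpectrum.comap (algebraMap B C) P ∈ Set.range (PrimeSpectrum.comap (algebraMap B C)))
    (PrimeSpectrum.isOpenMap_comap_of_hasGoingDown_of_finitePresentation (R := B) (S := C)).isOpen_range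
  refine ⟨f, hfP, ?_⟩
  let Bf := Localization.Away f
  let g := algebraMap B C f
  let Cf := Localization.Away g
  letI : Algebra Bf Cf := (IsLocalization.Away.map Bf Cf (algebraMap B C) f).toAlgebra
  haveI : IsScalarTower B Bf Cf := .of_algebraMap_eq fun b => by
    simp [RingHom.algebraMap_toAlgebra, IsLocalization.Away.map, IsLocalization.map_eq, ← IsScalarTower.algebraMap_apply B C Cf]
  haveI : IsScalarTower A Bf Cf := .of_algebraMap_eq fun a => by
    rw [IsScalarTower.algebraMap_apply A B Bf, ← IsScalarTower.algebraMap_apply B Bf Cf, ← IsScalarTower.algebraMap_apply]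
  haveI : IsLocalization (Algebra.algebraMapSubmonoid C (Submonoid.powers f)) Cf := by
    rw [Algebra.algebraMapSubmonoid, Submonoid.map_powers]
    exact inferInstanceAs (IsLocalization.Away g Cf)
  haveI : Algebra.IsPushout B Bf C Cf := (Algebra.isPushout_of_isLocalization (Submonoid.powers f) Bf C Cf).symm
  haveI : Module.Flat Bf Cf := Module.Flat.of_linearEquiv (Algebra.IsPushout.equiv B Bf C Cf).toLinearEquiv.symm
  haveI : Module.FaithfullyFlat Bf Cf := Module.FaithfullyFlat.of_comap_surjective fun q => by
    have hq : PrimeSpectrum.comap (algebraMap B Bf) q ∈ Set.range (PrimeSpectrum.comap (algebraMap B C)) := by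
      refine hfsub ?_
      show f ∉ q.asIdeal.comap (algebraMap B Bf)
      exact fun h => q.isPrime.ne_top (Ideal.eq_top_of_isUnit_mem _ h (IsLocalization.Away.algebraMap_isUnit f))
    obtain ⟨p, hp⟩ := hq
    have hgp : p ∈ Set.range (PrimeSpectrum.comap (algebraMap C Cf)) := by
      rw [PrimeSpectrum.localization_away_comap_range Cf g]
      show g ∉ p.asIdeal
      intro h
      have h' : f ∈ (PrimeSpectrum.comap (algebraMap B C) p).asIdeal := h
      rw [hp] at h'
      exact q.isPrime.ne_top (Ideal.eq_top_of_isUnit_mem _ h' (IsLocalization.Away.algebraMap_isUnit f))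
    obtain ⟨r, rfl⟩ := hgp
    refine ⟨r, PrimeSpectrum.localization_comap_injective Bf (Submonoid.powers f) ?_⟩
    rw [← hp, ← PrimeSpectrum.comap_comp_apply, ← PrimeSpectrum.comap_comp_apply, ← IsScalarTower.algebraMap_eq,
      ← IsScalarTower.algebraMap_eq]
  haveI : Module.Flat A C := inferInstance
  haveI : Module.Flat A Cf := Module.Flat.trans A C Cf
  haveI : Module.Flat A Bf := Groth.Agent.EtDescent.flat_of_faithfullyFlat A Bf Cf
  haveI : Algebra.FormallyEtale B Bf := Algebra.FormallyEtale.of_isLocalization (Submonoid.powers f)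
  haveI : Subsingleton (Cf ⊗[Bf] Ω[Bf⁄A]) :=
    ((TensorProduct.AlgebraTensorModule.congr (LinearEquiv.refl Cf Cf)
        (KaehlerDifferential.tensorKaehlerEquivOfFormallyEtale A B Bf)).symm ≪≫ₗ
      TensorProduct.AlgebraTensorModule.cancelBaseChange B Bf Cf Cf Ω[B⁄A] ≪≫ₗ
      (TensorProduct.AlgebraTensorModule.cancelBaseChange B C Cf Cf Ω[B⁄A]).symm).toEquiv.subsingleton
  haveI : Algebra.FormallyUnramified A Bf :=
    ⟨(Module.FaithfullyFlat.subsingleton_tensorProduct_iff_right Bf Cf).1 inferInstance⟩
  exact Algebra.Etale.of_formallyUnramified_of_flat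

end Groth.Agent.NeronHDLib
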